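import Groth.Agent.SepDiffLib.Field
import Groth.Agent.S13458
import Groth.Agent.VarDimLib.Basic
import Groth.Agent.AVIndexLib.HodgeDim

/-!
# The pullback of differentials along a map with separable generic fibre
-/

set_option autoImplicit false
set_option linter.style.haveILetI false
universe u
open CategoryTheory CategoryTheory.Limits AlgebraicGeometry TopologicalSpace Opposite TensorProduct

noncomputable section

namespace SepDiffLib

variable {X Z S : Scheme.{u}}

/-- The map on differentials into those of the function field. -/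
theorem isScalarTower_residue (f : X ⟶ Z) (p : Z ⟶ S) (q : X ⟶ S) (w : f ≫ p = q) {V : S.Opens} {U : Z.Opens}
    {U' : X.Opens} (e₁ : U ≤ p ⁻¹ᵁ V) (e₂ : U' ≤ q ⁻¹ᵁ V) (e : U' ≤ f ⁻¹ᵁ U) {x : X} (hx : x ∈ U') (a : Γ(S, V)) :
    f.residueFieldMap x (evalRes U (e hx) (p.appLE V U e₁ a)) = evalRes U' hx (q.appLE V U' e₂ a) := by
  rw [residueFieldMap_evalRes f e hx]
  refine congrArg (evalRes U' hx) ?_
  show (p.appLE V U e₁ ≫ f.appLE U U' e) a = _
  rw [Scheme.Hom.appLE_comp_appLE]
  exact congr($(OmegaSh.appLE_congr_hom w _ _) a)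

/-- The canonical map is a monomorphism when the generic fibre is separable and the differentials downstairs are flat. -/
theorem mono_diffMap [IsIntegral X] [IsIntegral Z] (p : Z ⟶ S) [Smooth p] (q : X ⟶ S) (f : X ⟶ Z)
    (w : f ≫ p = q) (hη : f.base (genericPoint X) = genericPoint Z)
    (hsep : GeometricallyReduced (pullback.snd f (Z.fromSpecResidueField (genericPoint Z))))
    (ΩZ : Z.Modules) (dZ : OmegaSh.Der p ΩZ) (hZ : OmegaSh.IsUniversal dZ)
    (ΩX : X.Modules) (dX : OmegaSh.Der q ΩX) (hX : OmegaSh.IsUniversal dX)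
    (c : (Scheme.Modules.pullback f).obj ΩZ ⟶ ΩX) (hc : OmegaSh.IsDiffCompat f dZ dX c) :
    Mono c := by
  haveI : Coh.IsQCoh ΩZ := OmegaAffLib.isQCoh_of_isUniversal hZ
  haveI : Coh.IsQCoh ((Scheme.Modules.pullback f).obj ΩZ) := KFlatLib.isQCoh_pullback f ΩZ
  haveI : Coh.IsQCoh ΩX := OmegaAffLib.isQCoh_of_isUniversal hX
  refine Groth.Agent.S13458.mono_of_injective_charts c fun x => ?_
  obtain ⟨V, hV, hxV, -⟩ := exists_isAffineOpen_mem_and_subset (show p (f x) ∈ (⊤ : S.Opens) from trivial)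
  obtain ⟨U, hU, hxU, hUV⟩ := exists_isAffineOpen_mem_and_subset (show f x ∈ p ⁻¹ᵁ V from hxV)
  obtain ⟨U', hU'a, hxU', hU'⟩ := exists_isAffineOpen_mem_and_subset (show x ∈ f ⁻¹ᵁ U from hxU)
  refine ⟨U', hU'a, hxU', ?_⟩
  have e₁ : U ≤ p ⁻¹ᵁ V := hUV
  have e : U' ≤ f ⁻¹ᵁ U := hU'
  have e₂ : U' ≤ q ⁻¹ᵁ V := by rw [← w]; exact e.trans (f.preimage_mono e₁)
  have hξ : genericPoint X ∈ U' := ((genericPoint_spec X).mem_open_set_iff U'.2).2 ⟨x, trivial, hxU'⟩
  let κ := Z.residueField (f.base (genericPoint X))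
  let L := X.residueField (genericPoint X)
  letI := (p.appLE V U e₁).hom.toAlgebra
  letI := (q.appLE V U' e₂).hom.toAlgebra
  letI := (f.appLE U U' e).hom.toAlgebra
  letI : Algebra κ L := (f.residueFieldMap (genericPoint X)).hom.toAlgebra
  letI : Algebra Γ(Z, U) κ := (evalRes U (e hξ)).hom.toAlgebra
  letI : Algebra Γ(X, U') L := (evalRes U' hξ).hom.toAlgebra
  letI : Algebra Γ(Z, U) L := ((algebraMap κ L).comp (algebraMap Γ(Z, U) κ)).toAlgebra
  letI : Algebra Γ(S, V) κ := ((algebraMap Γ(Z, U) κ).comp (algebraMap Γ(S, V) Γ(Z, U))).toAlgebra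
  letI : Algebra Γ(S, V) L := ((algebraMap Γ(X, U') L).comp (algebraMap Γ(S, V) Γ(X, U'))).toAlgebra
  haveI : IsScalarTower Γ(S, V) Γ(Z, U) κ := IsScalarTower.of_algebraMap_eq fun _ => rfl
  haveI : IsScalarTower Γ(S, V) Γ(X, U') L := IsScalarTower.of_algebraMap_eq fun _ => rfl
  haveI : IsScalarTower Γ(Z, U) κ L := IsScalarTower.of_algebraMap_eq fun _ => rfl
  haveI : IsScalarTower Γ(S, V) Γ(Z, U) Γ(X, U') := IsScalarTower.of_algebraMap_eq' (by
    show (q.appLE V U' e₂).hom = (f.appLE U U' e).hom.comp (p.appLE V U e₁).hom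
    rw [← CommRingCat.hom_comp]
    exact congrArg CommRingCat.Hom.hom
      ((OmegaSh.appLE_congr_hom w.symm _ _).trans (Scheme.Hom.appLE_comp_appLE f p V U U' e₁ e).symm))
  haveI : IsScalarTower Γ(Z, U) Γ(X, U') L :=
    IsScalarTower.of_algebraMap_eq fun a => residueFieldMap_evalRes f e hξ a
  haveI : IsScalarTower Γ(S, V) κ L :=
    IsScalarTower.of_algebraMap_eq fun a => (isScalarTower_residue f p q w e₁ e₂ e hξ a).symm
  haveI : IsScalarTower Γ(S, V) Γ(Z, U) L :=
    IsScalarTower.of_algebraMap_eq fun a => (isScalarTower_residue f p q w e₁ e₂ e hξ a).symm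
  refine Groth.Agent.S13458.injective_app_of_algebra hZ hX hc hV hU e₁ hU'a e₂ e rfl rfl rfl ?_
  haveI : Algebra.Smooth Γ(S, V) Γ(Z, U) := (p.smooth_appLE hV hU e₁).toAlgebra
  haveI : Algebra.FormallySmooth κ L :=
    formallySmooth_generic f (genericPoint Z) hη hsep
  haveI : Nonempty U := ⟨⟨f x, hxU⟩⟩
  haveI : FaithfulSMul Γ(Z, U) κ :=
    (faithfulSMul_iff_algebraMap_injective _ _).mpr (evalRes_injective (U := U) (x := f.base (genericPoint X)) (e hξ) hη)
  haveI : IsFractionRing Γ(Z, U) κ := IsFractionRing.of_field Γ(Z, U) κ fun z => by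
    obtain ⟨r, s, -, h⟩ := exists_eq_div hU (e hξ) z
    exact ⟨r, s, h⟩
  exact injective_mapBaseChange (K := κ) (L := L) (evalRes_injective hξ rfl)

/-- A field of fractions of the image of a ring is essentially of finite type over it. -/
theorem essFiniteType_of_div (R K : Type u) [CommRing R] [Field K] [Algebra R K]
    (h : ∀ x : K, ∃ r s : R, algebraMap R K s ≠ 0 ∧ x = algebraMap R K r / algebraMap R K s) :
    Algebra.EssFiniteType R K := by
  refine (Algebra.essFiniteType_iff R K).mpr ⟨∅, fun x => ?_⟩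
  obtain ⟨r, s, hs, rfl⟩ := h x
  refine ⟨algebraMap R K s, Subalgebra.algebraMap_mem _ s, isUnit_iff_ne_zero.mpr hs, ?_⟩
  rw [div_mul_cancel₀ _ hs]
  exact Subalgebra.algebraMap_mem _ r

/-- Differentials over an algebra that is a quotient of the base. -/
theorem finrank_kaehler_le_of_surjective (k k₀ K : Type u) [CommRing k] [CommRing k₀] [Field K] [Algebra k k₀]
    [Algebra k K] [Algebra k₀ K] [IsScalarTower k k₀ K] (h : Function.Surjective (algebraMap k k₀))
    [Module.Finite K Ω[K⁄k₀]] : Module.finrank K Ω[K⁄k] ≤ Module.finrank K Ω[K⁄k₀] := by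
  let g : Ω[K⁄k] →ₗ[K] Ω[K⁄k₀] := KaehlerDifferential.map k k₀ K K
  refine LinearMap.finrank_le_finrank_of_injective (f := g) ?_
  haveI : SMulCommClass k k₀ K := inferInstance
  let δ : Derivation k₀ K Ω[K⁄k] := Derivation.mk'
    { toFun := KaehlerDifferential.D k K
      map_add' := map_add _
      map_smul' := fun a x => by
        obtain ⟨b, rfl⟩ := h a
        rw [Algebra.smul_def, ← IsScalarTower.algebraMap_apply, ← Algebra.smul_def, Derivation.map_smul]
        show _ = algebraMap k k₀ b • KaehlerDifferential.D k K x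
        rw [← algebraMap_smul K (algebraMap k k₀ b), ← IsScalarTower.algebraMap_apply, algebraMap_smul] }
    fun a b => (KaehlerDifferential.D k K).leibniz a b
  refine Function.LeftInverse.injective (g := δ.liftKaehlerDifferential) fun w => ?_
  have hw : w ∈ Submodule.span K (Set.range (KaehlerDifferential.D k K)) := by
    rw [KaehlerDifferential.span_range_derivation]; trivial
  induction hw using Submodule.span_induction with
  | mem y hy =>
    obtain ⟨x, rfl⟩ := hy
    rw [show g (KaehlerDifferential.D k K x) = KaehlerDifferential.D k₀ K x from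
      KaehlerDifferential.map_D k k₀ K K x, Derivation.liftKaehlerDifferential_comp_D]
    rfl
  | zero => simp
  | add y z _ _ hy hz => simp only [map_add, hy, hz]
  | smul c y _ hy => simp only [map_smul, hy]

theorem toGlobal_res (k : Type u) [Field k] {Z : Scheme.{u}} [Z.Over (Spec (CommRingCat.of k))] {U : Z.Opens}
    {z : Z} (hz : z ∈ U) (b : k) :
    Curv2.resMap k Z z b = evalRes U hz ((Z ↘ Spec (CommRingCat.of k)).appLE ⊤ U le_top
      ((Scheme.ΓSpecIso (CommRingCat.of k)).inv b)) :=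
  congrArg (Z.residue z) (Z.presheaf.germ_res_apply (homOfLE (le_top : U ≤ ⊤)) z hz _).symm

/-- Global sections of the differentials with independent germs at the generic point. -/
theorem exists_coords (k : Type u) [Field k] [X.Over (Spec (CommRingCat.of k))] [Z.Over (Spec (CommRingCat.of k))]
    [IsIntegral X] [LocallyOfFiniteType (Z ↘ Spec (CommRingCat.of k))]
    (f : X ⟶ Z) (hf : f ≫ (Z ↘ Spec (CommRingCat.of k)) = X ↘ Spec (CommRingCat.of k))
    (η : Z) (hη : f.base (genericPoint X) = η) (m : ℕ) (hm : topologicalKrullDim (closure ({η} : Set Z)) = m)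
    (hsep : GeometricallyReduced (pullback.snd f (Z.fromSpecResidueField η)))
    (ΩZ : Z.Modules) (dZ : OmegaSh.Der (Z ↘ Spec (CommRingCat.of k)) ΩZ) (hZ : OmegaSh.IsUniversal dZ)
    (ΩX : X.Modules) (dX : OmegaSh.Der (X ↘ Spec (CommRingCat.of k)) ΩX) (hX : OmegaSh.IsUniversal dX)
    (c : (Scheme.Modules.pullback f).obj ΩZ ⟶ ΩX) (hc : OmegaSh.IsDiffCompat f dZ dX c)
    {d : ℕ} (θ : (Scheme.Modules.pullback f).obj ΩZ ≅ FlatMod.freeMod X d)
    (O : X.Opens) (hO : genericPoint X ∈ O) :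
    ∃ (t : Fin m → Γ(ΩX, ⊤)) (U' : X.Opens) (hξ : genericPoint X ∈ U'), IsAffineOpen U' ∧ U' ≤ O ∧
      ∃ Λ : Γ(ΩX, U') →+ (Fin m → X.residueField (genericPoint X)),
        (∀ (a : Γ(X, U')) (s : Γ(ΩX, U')), Λ (a • s) = evalRes U' hξ a • Λ s) ∧
        ∀ i, Λ (ΩX.presheaf.map (homOfLE (le_top : U' ≤ ⊤)).op (t i)) = Pi.single i 1 := by
  classical
  haveI : Coh.IsQCoh ΩX := OmegaAffLib.isQCoh_of_isUniversal hX
  obtain ⟨ee, hee⟩ := AVIndexLib.exists_sections_of_iso θ
  obtain ⟨U, hU, hxU, -⟩ := exists_isAffineOpen_mem_and_subset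
    (show f (genericPoint X) ∈ (⊤ : Z.Opens) from trivial)
  obtain ⟨U', hU'a, hξ, hU'O⟩ := exists_isAffineOpen_mem_and_subset
    (show genericPoint X ∈ O ⊓ f ⁻¹ᵁ U from ⟨hO, hxU⟩)
  have e : U' ≤ f ⁻¹ᵁ U := le_trans hU'O inf_le_right
  let P := Spec (CommRingCat.of k)
  let p := Z ↘ P
  let q := X ↘ P
  let k₀ := Γ(P, ⊤)
  have e₁ : U ≤ p ⁻¹ᵁ ⊤ := le_top
  have e₂ : U' ≤ q ⁻¹ᵁ ⊤ := le_top
  let κ := Z.residueField (f.base (genericPoint X))
  let L := X.residueField (genericPoint X)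
  letI := (p.appLE ⊤ U e₁).hom.toAlgebra
  letI := (q.appLE ⊤ U' e₂).hom.toAlgebra
  letI : Algebra κ L := (f.residueFieldMap (genericPoint X)).hom.toAlgebra
  letI : Algebra Γ(Z, U) κ := (evalRes U (e hξ)).hom.toAlgebra
  letI : Algebra Γ(X, U') L := (evalRes U' hξ).hom.toAlgebra
  letI : Algebra k₀ κ := ((algebraMap Γ(Z, U) κ).comp (algebraMap k₀ Γ(Z, U))).toAlgebra
  letI : Algebra k₀ L := ((algebraMap Γ(X, U') L).comp (algebraMap k₀ Γ(X, U'))).toAlgebra
  haveI : IsScalarTower k₀ Γ(Z, U) κ := IsScalarTower.of_algebraMap_eq fun _ => rfl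
  haveI : IsScalarTower k₀ Γ(X, U') L := IsScalarTower.of_algebraMap_eq fun _ => rfl
  haveI : IsScalarTower k₀ κ L :=
    IsScalarTower.of_algebraMap_eq fun a => (isScalarTower_residue f p q hf e₁ e₂ e hξ a).symm
  haveI : Algebra.FormallySmooth κ L := formallySmooth_generic f η hη hsep
  haveI : Algebra.FiniteType k₀ Γ(Z, U) := p.finiteType_appLE (isAffineOpen_top _) hU e₁
  have hdiv : ∀ x : κ, ∃ r s : Γ(Z, U), algebraMap Γ(Z, U) κ s ≠ 0 ∧
      x = algebraMap Γ(Z, U) κ r / algebraMap Γ(Z, U) κ s := exists_eq_div hU (e hξ)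
  haveI : Algebra.EssFiniteType Γ(Z, U) κ := essFiniteType_of_div _ _ hdiv
  haveI : Algebra.EssFiniteType k₀ κ := Algebra.EssFiniteType.comp k₀ Γ(Z, U) κ
  -- the rank of the differentials of the image
  letI : Algebra k k₀ := (Scheme.ΓSpecIso (CommRingCat.of k)).inv.hom.toAlgebra
  letI : Algebra k κ := ((algebraMap k₀ κ).comp (algebraMap k k₀)).toAlgebra
  haveI : IsScalarTower k k₀ κ := IsScalarTower.of_algebraMap_eq fun _ => rfl
  have hk₀ : Function.Surjective (algebraMap k k₀) :=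
    (ConcreteCategory.bijective_of_isIso (Scheme.ΓSpecIso (CommRingCat.of k)).inv).2
  haveI : Algebra.FiniteType k k₀ := Algebra.FiniteType.of_surjective (Algebra.ofId k k₀) hk₀
  haveI : Algebra.EssFiniteType k κ := Algebra.EssFiniteType.comp k k₀ κ
  have hrank : m ≤ Module.finrank κ Ω[κ⁄k₀] := by
    obtain ⟨s, hs, hs'⟩ := VarDimLib.closureDim_eq_trdeg k Z (f.base (genericPoint X))
    have hms : s = m := by
      rw [hη, hm] at hs
      exact_mod_cast hs.symm
    have halg : (inferInstance : Algebra k κ) = Curv2.resAlgebra k Z (f.base (genericPoint X)) :=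
      Algebra.algebra_ext _ _ fun b => (toGlobal_res k (U := U) (z := f.base (genericPoint X)) (e hξ) b).symm
    have htr : Algebra.trdeg k κ = s := by
      have key : ∀ a : Algebra k κ, a = Curv2.resAlgebra k Z (f.base (genericPoint X)) →
          @Algebra.trdeg k κ _ _ a = s := by rintro _ rfl; exact hs'
      exact key _ halg
    have h1 := trdeg_le_finrank k κ
    rw [htr, hms] at h1
    exact le_trans (by exact_mod_cast h1) (finrank_kaehler_le_of_surjective k k₀ κ hk₀)
  -- the germ at the generic point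
  obtain ⟨e', he'⟩ := OmegaAffLib.exists_equiv_alg hX (isAffineOpen_top _) hU'a e₂ rfl
  let Λ₀ : Γ(ΩX, U') →+ Ω[L⁄k₀] :=
    (KaehlerDifferential.map k₀ k₀ Γ(X, U') L).toAddMonoidHom.comp e'.symm.toLinearMap.toAddMonoidHom
  have hΛ₀ : ∀ (a : Γ(X, U')) (s : Γ(ΩX, U')), Λ₀ (a • s) = evalRes U' hξ a • Λ₀ s := fun a s => by
    show KaehlerDifferential.map k₀ k₀ Γ(X, U') L (e'.symm (a • s)) = _
    rw [map_smul, map_smul, ← algebraMap_smul L a]
    rfl
  let v : Fin d → Ω[L⁄k₀] := fun i => Λ₀ (ΩX.presheaf.map (homOfLE (le_top : U' ≤ ⊤)).op (c.app ⊤ (ee i)))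
  let W := Submodule.span L (Set.range v)
  haveI : Module.Finite L W := Module.Finite.span_of_finite L (Set.finite_range v)
  have hW : ∀ r : Γ(Z, U), KaehlerDifferential.D k₀ L (algebraMap κ L (algebraMap Γ(Z, U) κ r)) ∈ W := by
    intro r
    have h1 : KaehlerDifferential.D k₀ L (algebraMap κ L (algebraMap Γ(Z, U) κ r)) =
        Λ₀ (dX.app U' (f.appLE U U' e r)) := by
      show _ = KaehlerDifferential.map k₀ k₀ Γ(X, U') L (e'.symm _)
      rw [← he', LinearEquiv.symm_apply_apply, KaehlerDifferential.map_D]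
      exact congrArg _ (residueFieldMap_evalRes f e hξ r)
    obtain ⟨co, hco⟩ := (hee U').2 (KFlatLib.puSecLE f ΩZ e (dZ.app U r))
    have h2 : dX.app U' (f.appLE U U' e r) = AVIndexLib.combo (fun i => c.app ⊤ (ee i)) U' co :=
      (OmegaAffLib.chartMap_d hc e r).symm.trans ((congrArg (c.app U') hco.symm).trans (AVIndexLib.app_combo c ee U' co))
    rw [h1, h2, AVIndexLib.combo, map_sum]
    exact Submodule.sum_mem _ fun i _ => by
      rw [hΛ₀]
      exact Submodule.smul_mem _ _ (Submodule.subset_span ⟨i, rfl⟩)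
  have hmW : m ≤ Module.finrank L W := hrank.trans (finrank_le_span W hdiv hW)
  obtain ⟨ι', a, ha, hspan, hli⟩ := exists_linearIndependent' L v
  haveI : Finite ι' := Finite.of_injective a ha
  haveI := Fintype.ofFinite ι'
  have hcard : m ≤ Fintype.card ι' := by
    rw [← finrank_span_eq_card hli, hspan]
    exact hmW
  let σ : Fin m ↪ ι' := (Fin.castLEEmb hcard).trans (Fintype.equivFin ι').symm.toEmbedding
  have hvi : LinearIndependent L (v ∘ a ∘ σ) := hli.comp σ σ.injective
  obtain ⟨l, hl⟩ := LinearMap.exists_leftInverse_of_injective (Fintype.linearCombination L (v ∘ a ∘ σ))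
    (LinearMap.ker_eq_bot.mpr (linearIndependent_iff_injective_fintypeLinearCombination.mp hvi))
  refine ⟨fun i => c.app ⊤ (ee (a (σ i))), U', hξ, hU'a, le_trans hU'O inf_le_left,
    l.toAddMonoidHom.comp Λ₀, fun b s => ?_, fun i => ?_⟩
  · show l (Λ₀ (b • s)) = _
    rw [hΛ₀, map_smul]
    rfl
  · show l (v (a (σ i))) = _
    have h := LinearMap.congr_fun hl (Pi.single i 1)
    rw [LinearMap.comp_apply, Fintype.linearCombination_apply_single, one_smul] at h
    exact h

end SepDiffLib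

end
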