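import Groth.Agent.GeomRedFieldLib.Scheme
import Groth.Prelude.Def_Pi1

/-!
# Geometrically normal schemes are smooth at the generic point
-/

set_option autoImplicit false
set_option linter.style.haveILetI false
universe u
open CategoryTheory CategoryTheory.Limits AlgebraicGeometry TopologicalSpace TensorProduct

noncomputable section

namespace SepDiffLib

open GeomRedFieldLib in
theorem genericPoint_mem_smoothLocus_of_geomNormal (k : Type u) [Field k] {X : Scheme.{u}}
    (f : X ⟶ Spec (CommRingCat.of k)) [IsIntegral X] [LocallyOfFinitePresentation f]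
    (hgn : ∀ (K : Type u) [Field K] [Algebra k K] [IsAlgClosure k K],
      Pi1.IsNormalScheme (pullback f (Spec.map (CommRingCat.ofHom (algebraMap k K))))) :
    genericPoint X ∈ f.smoothLocus := by
  let Kb := AlgebraicClosure k
  haveI : ∀ z : ↥(pullback f (str k Kb)), _root_.IsReduced ((pullback f (str k Kb)).presheaf.stalk z) := fun z => by
    haveI := (hgn Kb z).1
    infer_instance
  haveI : AlgebraicGeometry.IsReduced (pullback f (str k Kb)) := isReduced_of_isReduced_stalk _
  haveI : GeometricallyReduced f := by
    refine GeomRedFieldLib.gr_of_cover f X.affineCover fun i => ?_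
    let T := X.affineOpenCover.X i
    obtain ⟨φ, hφ⟩ := Spec.map_surjective (X.affineOpenCover.f i ≫ f)
    letI : Algebra k T := φ.hom.toAlgebra
    let j : Spec (CommRingCat.of T) ⟶ X := X.affineOpenCover.f i
    have hj : j ≫ f = str k T := hφ.symm
    haveI : Algebra.IsGeometricallyReduced k T := by
      rw [Algebra.isGeometricallyReduced_field_iff]
      let m : pullback (str k T) (str k Kb) ⟶ pullback f (str k Kb) :=
        pullback.map _ _ _ _ j (𝟙 _) (𝟙 _) (by simp [hj]) (by simp)
      haveI : IsOpenImmersion j := X.affineOpenCover.map_prop i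
      haveI : IsOpenImmersion m := inferInstanceAs (IsOpenImmersion (pullback.map _ _ _ _ j (𝟙 _) (𝟙 _) _ _))
      haveI : AlgebraicGeometry.IsReduced (pullback (str k T) (str k Kb)) := isReduced_of_isOpenImmersion m
      haveI := isReduced_of_isOpenImmersion (pullbackSpecIso k T Kb).inv
      haveI : _root_.IsReduced ((T : Type u) ⊗[k] Kb) :=
        (affine_isReduced_iff (CommRingCat.of ((T : Type u) ⊗[k] Kb))).mp this
      exact isReduced_of_injective (Algebra.TensorProduct.comm k Kb T) (AlgEquiv.injective _)
    have h : GeometricallyReduced (j ≫ f) := hj ▸ gr_str (k := k) T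
    exact h
  obtain ⟨y, hy⟩ := (GeomRedFieldLib.dense_smoothLocus_of_gr f).nonempty
  exact ((genericPoint_spec X).mem_open_set_iff f.smoothLocus.2).2 ⟨y, trivial, hy⟩

/-- So the generic point lies in any largest smooth open. -/
theorem genericPoint_mem_of_max (k : Type u) [Field k] {X : Scheme.{u}}
    (f : X ⟶ Spec (CommRingCat.of k)) [IsIntegral X] [LocallyOfFinitePresentation f]
    (hgn : ∀ (K : Type u) [Field K] [Algebra k K] [IsAlgClosure k K],
      Pi1.IsNormalScheme (pullback f (Spec.map (CommRingCat.ofHom (algebraMap k K)))))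
    (U : X.Opens) (hUmax : ∀ V : X.Opens, Smooth (V.ι ≫ f) → V ≤ U) : genericPoint X ∈ U := by
  refine hUmax f.smoothLocus ?_ (genericPoint_mem_smoothLocus_of_geomNormal k f hgn)
  rw [← Scheme.Hom.smoothLocus_eq_top_iff, ← Scheme.Hom.preimage_smoothLocus_eq]
  ext z
  exact ⟨fun _ => trivial, fun _ => z.2⟩

end SepDiffLib

end
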