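import Mathlib.RingTheory.Kaehler.JacobiZariski
import Mathlib.RingTheory.Smooth.Basic
import Mathlib.RingTheory.Unramified.Field
import Mathlib.RingTheory.AlgebraicIndependent.TranscendenceBasis
import Mathlib.RingTheory.AlgebraicIndependent.AlgebraicClosure
import Mathlib.RingTheory.Localization.FractionRing
import Mathlib.RingTheory.Etale.Kaehler
import Mathlib.RingTheory.Flat.Basic
import Mathlib.FieldTheory.IntermediateField.Adjoin.Basic

/-!
# Differentials along a separable (formally smooth) extension of fields
-/

set_option autoImplicit false
set_option linter.style.haveILetI false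
universe u

open TensorProduct KaehlerDifferential

noncomputable section

namespace SepDiffLib

/-- Along a formally smooth map the base change of differentials is injective. -/
theorem injective_of_formallySmooth (k A B : Type u) [CommRing k] [CommRing A] [CommRing B] [Algebra k A]
    [Algebra A B] [Algebra k B] [IsScalarTower k A B] [Algebra.FormallySmooth A B] :
    Function.Injective (mapBaseChange k A B) := by
  refine (injective_iff_map_eq_zero _).mpr fun t ht => ?_
  obtain ⟨s, rfl⟩ := (Algebra.H1Cotangent.exact_δ_mapBaseChange k A B t).mp ht
  rw [Subsingleton.elim s 0, map_zero]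

/-- Transcendence degree is at most the rank of the differentials. -/
theorem trdeg_le_finrank (k K : Type u) [Field k] [Field K] [Algebra k K] [Algebra.EssFiniteType k K] :
    Algebra.trdeg k K ≤ Module.finrank K Ω[K⁄k] := by
  obtain ⟨b, hb, hspan, hli⟩ := exists_linearIndependent K (Set.range (D k K))
  rw [span_range_derivation] at hspan
  haveI : Finite b := hli.finite
  haveI := Fintype.ofFinite b
  have hcard : Fintype.card b ≤ Module.finrank K Ω[K⁄k] := hli.fintype_card_le_finrank
  choose t ht using fun x : b => hb x.2
  let E := IntermediateField.adjoin k (Set.range t)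
  haveI : Algebra.EssFiniteType E K := Algebra.EssFiniteType.of_comp k E K
  haveI : Algebra.FormallyUnramified E K := by
    refine ⟨⟨fun x y => ?_⟩⟩
    suffices h : ∀ w : Ω[K⁄k], KaehlerDifferential.map k E K K w = 0 by
      obtain ⟨x, rfl⟩ := KaehlerDifferential.map_surjective k E K x
      obtain ⟨y, rfl⟩ := KaehlerDifferential.map_surjective k E K y
      rw [h, h]
    intro w
    have hw : w ∈ Submodule.span K (b : Set Ω[K⁄k]) := by rw [hspan]; trivial
    induction hw using Submodule.span_induction with
    | mem y hy =>
      refine ((congrArg _ (ht ⟨y, hy⟩)).symm).trans ((KaehlerDifferential.map_D k E K K _).trans ?_)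
      exact Derivation.map_algebraMap _ (⟨t ⟨y, hy⟩, IntermediateField.subset_adjoin k _ ⟨_, rfl⟩⟩ : E)
    | zero => exact map_zero _
    | add y z _ _ hy hz => rw [map_add, hy, hz, add_zero]
    | smul a y _ hy => rw [LinearMap.map_smul, hy, smul_zero]
  haveI : Algebra.IsSeparable E K := Algebra.FormallyUnramified.isSeparable E K
  haveI : Algebra.IsAlgebraic E K := inferInstance
  haveI : Algebra.IsAlgebraic (Algebra.adjoin k (Set.range t)) K := by
    exact IntermediateField.isAlgebraic_adjoin_iff_top.mp inferInstance
  refine (Algebra.IsAlgebraic.trdeg_le_cardinalMk k (Set.range t)).trans ?_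
  refine (Cardinal.mk_range_le).trans ?_
  rw [Cardinal.mk_fintype]
  exact_mod_cast hcard

/-- The differentials of functions generating a subfield span at least the differentials of that subfield. -/
theorem finrank_le_span {k R κ L : Type u} [CommRing k] [CommRing R] [Field κ] [Field L] [Algebra k κ]
    [Algebra R κ] [Algebra κ L] [Algebra k L] [IsScalarTower k κ L] [Algebra.FormallySmooth κ L]
    [Module.Finite κ Ω[κ⁄k]] (W : Submodule L Ω[L⁄k]) [Module.Finite L W]
    (hgen : ∀ x : κ, ∃ r s : R, algebraMap R κ s ≠ 0 ∧ x = algebraMap R κ r / algebraMap R κ s)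
    (hW : ∀ r : R, D k L (algebraMap κ L (algebraMap R κ r)) ∈ W) :
    Module.finrank κ Ω[κ⁄k] ≤ Module.finrank L W := by
  have h : ∀ z, mapBaseChange k κ L z ∈ W := by
    intro z
    induction z using TensorProduct.induction_on with
    | zero => simp
    | add a b ha hb => rw [map_add]; exact add_mem ha hb
    | tmul a w =>
      rw [mapBaseChange_tmul]
      refine Submodule.smul_mem _ _ ?_
      have hw : w ∈ Submodule.span κ (Set.range (D k κ)) := by rw [span_range_derivation]; trivial
      induction hw using Submodule.span_induction with
      | mem y hy =>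
        obtain ⟨x, rfl⟩ := hy
        obtain ⟨r, s, hs, rfl⟩ := hgen x
        rw [KaehlerDifferential.map_D, map_div₀, Derivation.leibniz_div]
        exact Submodule.smul_mem _ _ (sub_mem (Submodule.smul_mem _ _ (hW r)) (Submodule.smul_mem _ _ (hW s)))
      | zero => simp
      | add y z _ _ hy hz => rw [map_add]; exact add_mem hy hz
      | smul c y _ hy =>
        rw [LinearMap.map_smul, ← algebraMap_smul L c]
        exact Submodule.smul_mem _ _ hy
  have := LinearMap.finrank_le_finrank_of_injective
    (f := (mapBaseChange k κ L).codRestrict W h) ((LinearMap.injective_codRestrict_iff ..).mpr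
      (injective_of_formallySmooth k κ L))
  rwa [Module.finrank_baseChange] at this

/-- Injectivity on rings with flat differentials inside a formally smooth extension of fraction fields. -/
theorem injective_mapBaseChange {k R S K L : Type u} [CommRing k] [CommRing R] [IsDomain R] [CommRing S]
    [Field K] [Field L] [Algebra k R] [Algebra k S] [Algebra R S] [IsScalarTower k R S]
    [Algebra R K] [IsFractionRing R K] [Algebra S L] [Algebra K L] [Algebra R L]
    [IsScalarTower R K L] [IsScalarTower R S L] [Algebra k L] [Algebra k K] [IsScalarTower k R K]
    [IsScalarTower k K L] [IsScalarTower k S L] [IsScalarTower k R L]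
    [Algebra.FormallySmooth K L] [Module.Flat R Ω[R⁄k]] (hSL : Function.Injective (algebraMap S L)) :
    Function.Injective (mapBaseChange k R S) := by
  haveI : Algebra.FormallyEtale R K := Algebra.FormallyEtale.of_isLocalization (nonZeroDivisors R)
  have hbc := KaehlerDifferential.isBaseChange_of_formallyEtale k R K
  let g : L ⊗[R] Ω[R⁄k] →ₗ[L] Ω[L⁄k] := mapBaseChange k K L ∘ₗ
    (((TensorProduct.AlgebraTensorModule.congr (LinearEquiv.refl L L) hbc.equiv).symm ≪≫ₗ
      TensorProduct.AlgebraTensorModule.cancelBaseChange R K L L Ω[R⁄k]).symm).toLinearMap
  have hg : Function.Injective g := (injective_of_formallySmooth k K L).comp (LinearEquiv.injective _)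
  have hgt : ∀ (a : L) (w : Ω[R⁄k]), g (a ⊗ₜ w) = a • KaehlerDifferential.map k k R L w := by
    intro a w
    have h1 : ∀ w, KaehlerDifferential.map k k K L (KaehlerDifferential.map k k R K w) =
        KaehlerDifferential.map k k R L w := by
      intro w
      have hw : w ∈ Submodule.span R (Set.range (D k R)) := by rw [span_range_derivation]; trivial
      induction hw using Submodule.span_induction with
      | mem y hy =>
        obtain ⟨r, rfl⟩ := hy
        simp [← IsScalarTower.algebraMap_apply]
      | zero => simp
      | add y z _ _ hy hz => simp only [map_add, hy, hz]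
      | smul r y _ hy =>
        rw [map_smul (KaehlerDifferential.map k k R L), map_smul (KaehlerDifferential.map k k R K),
          ← algebraMap_smul K r (KaehlerDifferential.map k k R K y), map_smul, hy, algebraMap_smul]
    simp only [g, LinearMap.comp_apply, LinearEquiv.coe_coe, LinearEquiv.trans_symm, LinearEquiv.symm_symm,
      LinearEquiv.trans_apply, TensorProduct.AlgebraTensorModule.cancelBaseChange_symm_tmul,
      TensorProduct.AlgebraTensorModule.congr_tmul, LinearEquiv.refl_apply, IsBaseChange.equiv_tmul, one_smul,
      mapBaseChange_tmul, h1]
  have key : ∀ z : S ⊗[R] Ω[R⁄k], KaehlerDifferential.map k k S L (mapBaseChange k R S z) =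
      g ((IsScalarTower.toAlgHom R S L).toLinearMap.rTensor _ z) := by
    intro z
    induction z using TensorProduct.induction_on with
    | zero => simp only [map_zero]
    | add a b ha hb => simp only [map_add, ha, hb]
    | tmul a w =>
      rw [mapBaseChange_tmul, LinearMap.rTensor_tmul, hgt, map_smul]
      rw [show (IsScalarTower.toAlgHom R S L).toLinearMap a = algebraMap S L a from rfl, algebraMap_smul]
      congr 1
      have hw : w ∈ Submodule.span R (Set.range (D k R)) := by rw [span_range_derivation]; trivial
      induction hw using Submodule.span_induction with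
      | mem y hy =>
        obtain ⟨r, rfl⟩ := hy
        simp [← IsScalarTower.algebraMap_apply]
      | zero => simp
      | add y z _ _ hy hz => simp only [map_add, hy, hz]
      | smul r y _ hy =>
        rw [map_smul (KaehlerDifferential.map k k R L), map_smul (KaehlerDifferential.map k k R S),
          ← algebraMap_smul S r (KaehlerDifferential.map k k R S y), map_smul, hy, algebraMap_smul]
  intro a b hab
  refine Module.Flat.rTensor_preserves_injective_linearMap (M := Ω[R⁄k]) (IsScalarTower.toAlgHom R S L).toLinearMap
    hSL (hg ?_)
  rw [← key, ← key, hab]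

end SepDiffLib

end
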