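import Groth.Agent.SepDiffLib.Algebra
import Groth.Agent.GeomRedFieldLib.AtPoint
import Groth.Agent.CohenLib.GeomRed
import Groth.Agent.FlatDimLib.Trdeg
import Groth.Agent.AlgSpLib.ReducedStalk

/-!
# Function fields with geometrically reduced generic fibre
-/

set_option autoImplicit false
set_option linter.style.haveILetI false
universe u
open CategoryTheory CategoryTheory.Limits AlgebraicGeometry TopologicalSpace Opposite

noncomputable section

namespace SepDiffLib

variable {X Z : Scheme.{u}}

theorem isIso_residue_generic [IsIntegral X] : IsIso (X.residue (genericPoint X)) :=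
  (ConcreteCategory.isIso_iff_bijective _).2
    ⟨RingHom.injective (R := X.functionField) (X.residue (genericPoint X)).hom, X.residue_surjective _⟩

theorem flat_fromSpecResidueField_generic [IsIntegral X] : Flat (X.fromSpecResidueField (genericPoint X)) := by
  haveI := AlgSpLib.flat_fromSpecStalk (genericPoint X)
  haveI := isIso_residue_generic (X := X)
  show Flat (Spec.map (X.residue (genericPoint X)) ≫ X.fromSpecStalk _)
  infer_instance

/-- A flat preimmersion into a reduced scheme has reduced source. -/
theorem isReduced_of_flat_preimmersion {P Q : Scheme.{u}} (m : P ⟶ Q) [Flat m] [IsPreimmersion m]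
    [AlgebraicGeometry.IsReduced Q] : AlgebraicGeometry.IsReduced P := by
  haveI : ∀ p : P, _root_.IsReduced (P.presheaf.stalk p) := fun p =>
    isReduced_of_injective
      (RingEquiv.ofBijective (m.stalkMap p).hom (SweepSix.FieldsRed.isIso_stalkMap m p)).symm
      (RingEquiv.injective _)
  exact isReduced_of_isReduced_stalk P

/-- Geometric reducedness passes along flat preimmersions. -/
theorem gr_comp_of_flat_preimmersion {P Q T : Scheme.{u}} (m : P ⟶ Q) [Flat m] [IsPreimmersion m] (q : Q ⟶ T)
    [GeometricallyReduced q] : GeometricallyReduced (m ≫ q) := by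
  refine ⟨geometrically_iff_of_isClosedUnderIsomorphisms.mpr fun K _ y => ?_⟩
  haveI : AlgebraicGeometry.IsReduced (pullback q y) :=
    GeometricallyReduced.geometrically_isReduced _ _ _ (.of_hasPullback q y)
  haveI : AlgebraicGeometry.IsReduced (pullback m (pullback.fst q y)) :=
    isReduced_of_flat_preimmersion (pullback.snd m (pullback.fst q y))
  exact isReduced_of_isOpenImmersion (pullbackRightPullbackFstIso q y m).inv

/-- A geometrically reduced generic fibre makes the extension of residue fields formally smooth. -/
theorem formallySmooth_generic [IsIntegral X] (f : X ⟶ Z) (η : Z) (hη : f.base (genericPoint X) = η)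
    (hsep : GeometricallyReduced (pullback.snd f (Z.fromSpecResidueField η))) :
    @Algebra.FormallySmooth (Z.residueField (f.base (genericPoint X))) (X.residueField (genericPoint X)) _ _
      (f.residueFieldMap (genericPoint X)).hom.toAlgebra := by
  subst hη
  letI := (f.residueFieldMap (genericPoint X)).hom.toAlgebra
  let κ := Z.residueField (f.base (genericPoint X))
  let L := X.residueField (genericPoint X)
  let ξm : Spec L ⟶ X := X.fromSpecResidueField (genericPoint X)
  haveI : Flat ξm := flat_fromSpecResidueField_generic
  let ι : Spec κ ⟶ Z := Z.fromSpecResidueField (f.base (genericPoint X))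
  let m : Spec L ⟶ pullback f ι := pullback.lift ξm (Spec.map (f.residueFieldMap (genericPoint X)))
    (Scheme.Hom.SpecMap_residueFieldMap_fromSpecResidueField f (genericPoint X)).symm
  have sq : IsPullback m (𝟙 _) (pullback.fst f ι) ξm := by
    refine IsPullback.of_isLimit' ⟨(pullback.lift_fst _ _ _).trans (Category.id_comp _).symm⟩ (PullbackCone.IsLimit.mk _ (fun s => s.snd) (fun s => ?_)
      (fun s => Category.comp_id _) (fun s n _ h => (Category.comp_id n).symm.trans h))
    rw [← cancel_mono (pullback.fst f ι), Category.assoc, pullback.lift_fst]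
    exact s.condition.symm
  haveI : Flat m := MorphismProperty.of_isPullback sq.flip ‹Flat ξm›
  haveI : IsPreimmersion m := MorphismProperty.of_isPullback sq.flip inferInstance
  have hL : GeometricallyReduced (Spec.map (CommRingCat.ofHom (algebraMap κ L))) := by
    have h := gr_comp_of_flat_preimmersion m (pullback.snd f ι)
    rw [pullback.lift_snd] at h
    exact h
  haveI : Algebra.IsGeometricallyReduced κ L := by
    haveI := hL
    exact GeomRedFieldLib.isGeometricallyReduced_chart (Spec.map (CommRingCat.ofHom (algebraMap κ L)))
      (T := L) (𝟙 _) (Category.id_comp _)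
  exact CohenLib.formallySmooth_of_isGeometricallyReduced κ L

/-- Germs in the residue field at a point of an open. -/
def evalRes (U : Z.Opens) {x : Z} (hx : x ∈ U) : Γ(Z, U) ⟶ Z.residueField x :=
  Z.presheaf.germ U x hx ≫ Z.residue x

/-- Residue fields consist of fractions of functions on an affine neighbourhood. -/
theorem exists_eq_div {U : Z.Opens} (hU : IsAffineOpen U) {x : Z} (hx : x ∈ U) (a : Z.residueField x) :
    ∃ r s : Γ(Z, U), evalRes U hx s ≠ 0 ∧ a = evalRes U hx r / evalRes U hx s := by
  have h : Spec.map (evalRes U hx) ≫ hU.fromSpec = Z.fromSpecResidueField x := by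
    rw [evalRes, Spec.map_comp, Category.assoc, ← IsAffineOpen.fromSpecStalk.eq_1 hU hx,
      hU.fromSpecStalk_eq_fromSpecStalk hx]
    rfl
  haveI : SurjectiveOnStalks (Spec.map (evalRes U hx) ≫ hU.fromSpec) := by rw [h]; infer_instance
  haveI : SurjectiveOnStalks (Spec.map (evalRes U hx)) := SurjectiveOnStalks.of_comp _ hU.fromSpec
  obtain ⟨r, s, hrs⟩ := FlatDimLib.exists_eq_div (evalRes U hx) a
  by_cases hs : evalRes U hx s = 0
  · exact ⟨0, 1, by rw [map_one]; exact one_ne_zero, by rw [hrs, hs, div_zero, map_zero, zero_div]⟩
  · exact ⟨r, s, hs, hrs⟩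

theorem evalRes_injective [IsIntegral Z] {U : Z.Opens} {x : Z} (hx : x ∈ U) (h : x = genericPoint Z) :
    Function.Injective (evalRes U hx) := by
  subst h
  exact ((RingHom.injective (R := Z.functionField) (Z.residue (genericPoint Z)).hom)).comp
    (germ_injective_of_isIntegral Z (genericPoint Z) hx)

theorem residueFieldMap_evalRes (f : X ⟶ Z) {U : Z.Opens} {U' : X.Opens} (e : U' ≤ f ⁻¹ᵁ U) {x : X}
    (hx : x ∈ U') (r : Γ(Z, U)) :
    f.residueFieldMap x (evalRes U (e hx) r) = evalRes U' hx (f.appLE U U' e r) := by
  show (Z.residue _ ≫ f.residueFieldMap x) (Z.presheaf.germ U _ _ r) = _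
  rw [Scheme.residue_residueFieldMap]
  show X.residue x (f.stalkMap x (Z.presheaf.germ U (f x) (e hx) r)) = _
  refine (congrArg (X.residue x) (Scheme.Hom.germ_stalkMap_apply f U x (e hx) r)).trans ?_
  exact congrArg (X.residue x) (X.presheaf.germ_res_apply (homOfLE e) x hx _).symm

end SepDiffLib

end
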